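import Cfsg.Agent.H840.L34.Inst
import Cfsg.Agent.H840.L34.Cnt
import Cfsg.Agent.H957.Bridge

/-!
# Permutations of the monomial basis (helper869)
-/

set_option autoImplicit false
set_option linter.constructorNameAsVariable false
set_option linter.unusedSectionVars false

namespace Cfsg.Agent.H869.L34

open Cfsg.Agent.Lib.FieldFour
open Cfsg.Agent.H840.L34
open scoped Matrix

section perm

variable {ι : Type} [Fintype ι] [DecidableEq ι] {F : Type*} [Field F] (B : Module.Basis Om F (ι → F))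

/-- permutation matrices -/
noncomputable def pm (σ : Equiv.Perm Om) : Matrix.GeneralLinearGroup ι F := mk (B.equiv B σ)

theorem pm_vec (σ : Equiv.Perm Om) (k : Om) : (pm B σ : Matrix ι ι F) *ᵥ B k = B (σ k) := by
  rw [pm, mk_vec]
  exact Module.Basis.equiv_apply _ _ _ _

theorem ext_B {x y : Matrix.GeneralLinearGroup ι F}
    (h : ∀ k, (x : Matrix ι ι F) *ᵥ B k = (y : Matrix ι ι F) *ᵥ B k) : x = y := by
  apply ext_vec
  intro v
  have : Matrix.toLin' (x : Matrix ι ι F) = Matrix.toLin' (y : Matrix ι ι F) := B.ext h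
  exact LinearMap.congr_fun this v

theorem pm_mul (σ τ : Equiv.Perm Om) : pm B (σ * τ) = pm B σ * pm B τ := by
  apply ext_B B
  intro k
  rw [mul_vec, pm_vec, pm_vec, pm_vec]; rfl

theorem pm_one : pm B 1 = 1 := by
  apply ext_B B
  intro k
  rw [pm_vec, Units.val_one, Matrix.one_mulVec]; rfl

/-- the homomorphism -/
noncomputable def pmHom : Equiv.Perm Om →* Matrix.GeneralLinearGroup ι F where
  toFun := pm B
  map_one' := pm_one B
  map_mul' := pm_mul B

theorem pm_det (σ : Equiv.Perm Om) : ((pm B σ : Matrix.GeneralLinearGroup ι F) : Matrix ι ι F).det =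
    ((Equiv.Perm.sign σ : ℤˣ) : ℤ) := by
  have h1 : ((pm B σ : Matrix.GeneralLinearGroup ι F) : Matrix ι ι F).det =
      LinearMap.det (Matrix.toLin' ((pm B σ : Matrix.GeneralLinearGroup ι F) : Matrix ι ι F)) := by
    rw [LinearMap.det_toLin']
  rw [h1, ← LinearMap.det_toMatrix B, ← Equiv.Perm.sign_inv, ← Matrix.det_permutation]
  congr 1
  ext i j
  rw [LinearMap.toMatrix_apply]
  have h2 : Matrix.toLin' ((pm B σ : Matrix.GeneralLinearGroup ι F) : Matrix ι ι F) (B j) = B (σ j) := pm_vec B σ j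
  rw [h2, Module.Basis.repr_self, Finsupp.single_apply, Equiv.Perm.permMatrix, PEquiv.toMatrix_apply]
  simp only [Equiv.toPEquiv_apply, Option.mem_def, Option.some_inj]
  by_cases h : σ j = i
  · rw [if_pos h, if_pos]
    rw [← h]; exact σ.symm_apply_apply j
  · rw [if_neg h, if_neg]
    rintro rfl
    exact h (σ.apply_symm_apply _)

theorem sq_polar (Q : QuadraticForm F (ι → F)) : Sq id (QuadraticMap.polar (⇑Q)) where
  add_left x y v := QuadraticMap.polar_add_left Q x y v
  smul_left c x v := by rw [QuadraticMap.polar_smul_left, smul_eq_mul]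
  add_right x y v := QuadraticMap.polar_add_right Q v x y
  smul_right c x v := by rw [QuadraticMap.polar_smul_right, smul_eq_mul]; rfl

theorem iso_of_polar (h2 : (2 : F) ≠ 0) (Q : QuadraticForm F (ι → F)) {g : Matrix.GeneralLinearGroup ι F}
    (h : ∀ x y, QuadraticMap.polar (⇑Q) ((g : Matrix ι ι F) *ᵥ x) ((g : Matrix ι ι F) *ᵥ y) = QuadraticMap.polar (⇑Q) x y) :
    g ∈ Cfsg.isometryGroup F (⇑Q) := by
  rw [H957.mem_isometryGroup]
  intro v
  have h3 := h v v
  rw [QuadraticMap.polar_self, QuadraticMap.polar_self, two_nsmul, two_nsmul, ← two_mul, ← two_mul] at h3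
  exact mul_left_cancel₀ h2 h3

variable (h2 : (2 : F) ≠ 0) (Q : QuadraticForm F (ι → F)) {s : F} (hB : ∀ k, Q (B k) = s)
  (hB' : ∀ k l, k ≠ l → QuadraticMap.polar (⇑Q) (B k) (B l) = 0)

include h2 hB hB' in
theorem pm_iso (σ : Equiv.Perm Om) : pm B σ ∈ Cfsg.isometryGroup F (⇑Q) := by
  apply iso_of_polar h2
  apply (sq_polar Q).of_basis B
  intro k l
  rw [pm_vec, pm_vec]
  by_cases hkl : k = l
  · subst hkl
    rw [QuadraticMap.polar_self, QuadraticMap.polar_self, hB, hB]
  · rw [hB' k l hkl, hB' _ _ (fun h => hkl (σ.injective h))]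

include h2 hB hB' in
theorem pm_omega [Finite F] (hnd : (QuadraticMap.polarBilin Q).Nondegenerate) {σ : Equiv.Perm Om}
    (hσ : Equiv.Perm.sign σ = 1) : pm B σ ∈ Cfsg.Geo.omegaGL (⇑Q) := by
  have hF : Nat.card F ≠ 2 ∨ Fintype.card ι ≠ 4 := by
    left
    intro h
    apply h2
    have h3 : ((Nat.card F : ℕ) : F) = 0 := by
      have := Fintype.ofFinite F
      rw [Nat.card_eq_fintype_card]; exact FiniteField.cast_card_eq_zero F
    rw [h] at h3
    exact_mod_cast h3
  have h3 : (alternatingGroup Om) ≤ (Cfsg.Geo.omegaGL (⇑Q)).comap (pmHom B) := by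
    rw [← Equiv.Perm.closure_three_cycles_eq_alternating, Subgroup.closure_le]
    intro τ hτ
    change pm B τ ∈ Cfsg.Geo.omegaGL (⇑Q)
    refine H957.mem_omegaGL_of_odd Q hnd hF (r := 3) (by decide) _ (pm_iso B h2 Q hB hB' τ) ?_
    have h4 : τ ^ 3 = 1 := by
      rw [← (show Equiv.Perm.IsThreeCycle τ from hτ).orderOf]; exact pow_orderOf_eq_one τ
    have h5 := congrArg (pmHom B) h4
    rw [map_pow, map_one] at h5
    exact h5
  exact h3 hσ

end perm

section count

variable {Γ : Type*} [Group Γ] {P : Subgroup Γ} {C : Cv P} {c : Conf C} {a b : P} {g u : Γ} (O : Ov c a b g u)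

/-- the first column of the inverse -/
def colInv (A : S) : Fin 3 → F4 := fun i => (A⁻¹ : S).1 i 0

theorem mem_SB_of_col {A A' : S} (h : colInv A = colInv A') : A * A'⁻¹ ∈ SB := by
  have h1 : ∀ i, (A * A'⁻¹ : S).1 i 0 = (1 : S).1 i 0 := by
    intro i
    have h2 : ∀ j, (A'⁻¹ : S).1 j 0 = (A⁻¹ : S).1 j 0 := fun j => (congrFun h j).symm
    rw [row, h2, h2, h2, ← row, mul_inv_cancel]
  apply mem_of_col
  · rw [h1]; decide
  · rw [h1]; decide

include O in
theorem card_Q_le [Finite P] : Nat.card O.Q ≤ Nat.card P * 65 := by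
  classical
  -- representatives
  have hrep : ∀ v : Fin 3 → F4, ∃ r : P, (∃ (r' : P) (A : S), C.π r' = q A ∧ colInv A = v) →
      ∃ A : S, C.π r = q A ∧ colInv A = v := by
    intro v
    by_cases h : ∃ (r' : P) (A : S), C.π r' = q A ∧ colInv A = v
    · obtain ⟨r', A, h1, h2⟩ := h
      exact ⟨r', fun _ => ⟨A, h1, h2⟩⟩
    · exact ⟨1, fun h' => absurd h' h⟩
  choose rr hrr using hrep
  have hQ : ∀ p r : P, (p : Γ) * g * r ∈ O.Q := fun p r => O.mem_Q.2 (Or.inr ⟨p, p.2, r, r.2, rfl⟩)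
  let f : P × Option (Fin 3 → F4) → O.Q := fun t => match t.2 with
    | none => ⟨t.1, O.P_le t.1.2⟩
    | some v => ⟨(t.1 : Γ) * g * (rr v), hQ _ _⟩
  have hf : Function.Surjective f := by
    rintro ⟨x, hx⟩
    rcases O.mem_Q.1 hx with hx | ⟨p, hp, r, hr, rfl⟩
    · exact ⟨(⟨x, hx⟩, none), rfl⟩
    · obtain ⟨A, hA⟩ := QuotientGroup.mk'_surjective (Subgroup.center S) (C.π ⟨r, hr⟩)
      obtain ⟨A', hA', hv⟩ := hrr (colInv A) ⟨⟨r, hr⟩, A, hA.symm, rfl⟩
      have h1 : A * A'⁻¹ ∈ SB := mem_SB_of_col hv.symm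
      have h2 : g * (((⟨r, hr⟩ : P) * (rr (colInv A))⁻¹ : P) : Γ) * g ∈ P := by
        apply O.conj_mem h1
        rw [map_mul, map_inv, ← hA, hA', map_mul, map_inv]
      refine ⟨(⟨p, hp⟩ * ⟨_, h2⟩, some (colInv A)), ?_⟩
      apply Subtype.ext
      change (p * (g * (r * ((rr (colInv A) : P) : Γ)⁻¹) * g)) * g * (rr (colInv A) : Γ) = p * g * r
      have h3 : g * g = 1 := O.gg
      calc (p * (g * (r * ((rr (colInv A) : P) : Γ)⁻¹) * g)) * g * (rr (colInv A) : Γ)
          = p * g * r * ((rr (colInv A) : P) : Γ)⁻¹ * (g * g) * (rr (colInv A) : Γ) := by group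
        _ = _ := by rw [h3]; group
  have h4 := Nat.card_le_card_of_surjective f hf
  rw [Nat.card_prod] at h4
  refine h4.trans (Nat.mul_le_mul_left _ ?_)
  rw [Nat.card_eq_fintype_card, Fintype.card_option, Fintype.card_fun, F4.card, Fintype.card_fin]
  norm_num

theorem card_P (C : Cv P) : Nat.card P = 40320 := by
  have h1 : Nat.card P = Nat.card L * Nat.card C.π.ker := by
    rw [← Nat.card_congr (QuotientGroup.quotientKerEquivOfSurjective C.π C.surj).toEquiv]
    exact Subgroup.card_eq_card_quotient_mul_card_subgroup _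
  have h2 : Nat.card C.π.ker = 2 := by
    have h3 : (C.π.ker : Set P) = {1, C.z} := by
      ext x
      change C.π x = 1 ↔ x = 1 ∨ x = C.z
      exact C.ker x
    have h4 : Nat.card C.π.ker = Set.ncard (C.π.ker : Set P) := rfl
    rw [h4, h3, Set.ncard_pair (fun h => C.z1 h.symm)]
  rw [h1, h2, card_L]

theorem sign_σg : Equiv.Perm.sign σg = 1 := by decide
theorem sign_σu : Equiv.Perm.sign σu = -1 := by decide

end count

end Cfsg.Agent.H869.L34
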