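import Cfsg.Agent.H869.L34.Swap
import Cfsg.Agent.H932.Spinor

/-!
# The graph automorphism of `2.L3(4)` is not induced by `Ω₁₀(7)` (helper869)
-/

set_option autoImplicit false
set_option linter.constructorNameAsVariable false
set_option linter.unusedSectionVars false

namespace Cfsg.Agent.H869.L34

open Cfsg.Agent.Lib.FieldFour
open Cfsg.Agent.H840.L34 Cfsg.Agent.H840.L34.Dt Cfsg.Agent.H932.Spinor

variable {G : Type*} [Group G] {C : Cv G}
variable {ι : Type} [Fintype ι] [DecidableEq ι] {F : Type*} [Field F]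

section vectors

variable {V : Type*} [AddCommGroup V] [Module F V]

/-- eigenvectors -/
def nvec (ρ : G →* Module.End F V) (c : Conf C) (a : G) (v0 : V) : Fin 4 → V :=
  ![V4 ρ c a v0 1 (-1) (-1) (-1), V2 ρ c a v0 1 1 3, V2 ρ c a v0 F4.w 1 3, V2 ρ c a v0 F4.v 1 3]

/-- eigenvectors -/
def pvec (ρ : G →* Module.End F V) (c : Conf C) (a : G) (v0 : V) : Fin 6 → V :=
  ![V4 ρ c a v0 1 1 0 0, V4 ρ c a v0 1 (-1) 2 0, V4 ρ c a v0 1 (-1) (-1) 3, V2 ρ c a v0 1 1 2,
    V2 ρ c a v0 F4.w 1 2, V2 ρ c a v0 F4.v 1 2]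

variable {ρ : G →* Module.End F V} {c : Conf C} {a : G} {v0 : V} {w : V →ₗ[F] V}

theorem map_nvec (h7 : (7 : F) = 0) {s : F}
    (hw4 : ∀ x y z t, w (V4 ρ c a v0 x y z t) = V4 ρ c a v0 (4 * s * (x + y + z + t)) (4 * s * (x + y - z - t))
      (4 * s * (x - y + z - t)) (4 * s * (x - y - z + t)))
    (hw2 : ∀ j, j ≠ 0 → ∀ x y, w (V2 ρ c a v0 j x y) = V2 ρ c a v0 j (5 * s * (x + y)) (5 * s * (x - y)))
    (i : Fin 4) : w (nvec ρ c a v0 i) = (-s) • nvec ρ c a v0 i := by
  have e4 : w (V4 ρ c a v0 1 (-1) (-1) (-1)) = (-s) • V4 ρ c a v0 1 (-1) (-1) (-1) := by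
    rw [hw4]
    unfold V4
    have : (4 * s * (1 + -1 + -1 + -1)) = -s := by linear_combination -s * h7
    rw [this]
    have : (4 * s * (1 + -1 - -1 - -1)) = s := by linear_combination s * h7
    rw [this]
    have : (4 * s * (1 - -1 + -1 - -1)) = s := by linear_combination s * h7
    rw [this]
    have : (4 * s * (1 - -1 - -1 + -1)) = s := by linear_combination s * h7
    rw [this]
    module
  have e2 : ∀ j : F4, j ≠ 0 → w (V2 ρ c a v0 j 1 3) = (-s) • V2 ρ c a v0 j 1 3 := by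
    intro j hj
    rw [hw2 j hj]
    unfold V2
    have : (5 * s * (1 + 3)) = -s := by linear_combination 3 * s * h7
    rw [this]
    have : (5 * s * (1 - 3)) = -(s * 3) := by linear_combination -s * h7
    rw [this]
    module
  fin_cases i
  · exact e4
  · exact e2 1 (by decide)
  · exact e2 F4.w (by decide)
  · exact e2 F4.v (by decide)

theorem map_pvec (h7 : (7 : F) = 0) {s : F}
    (hw4 : ∀ x y z t, w (V4 ρ c a v0 x y z t) = V4 ρ c a v0 (4 * s * (x + y + z + t)) (4 * s * (x + y - z - t))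
      (4 * s * (x - y + z - t)) (4 * s * (x - y - z + t)))
    (hw2 : ∀ j, j ≠ 0 → ∀ x y, w (V2 ρ c a v0 j x y) = V2 ρ c a v0 j (5 * s * (x + y)) (5 * s * (x - y)))
    (i : Fin 6) : w (pvec ρ c a v0 i) = s • pvec ρ c a v0 i := by
  have e2 : ∀ j : F4, j ≠ 0 → w (V2 ρ c a v0 j 1 2) = s • V2 ρ c a v0 j 1 2 := by
    intro j hj
    rw [hw2 j hj]
    unfold V2
    have : (5 * s * (1 + 2)) = s := by linear_combination 2 * s * h7
    rw [this]
    have : (5 * s * (1 - 2)) = s * 2 := by linear_combination -s * h7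
    rw [this]
    module
  fin_cases i
  · change w (V4 ρ c a v0 1 1 0 0) = s • V4 ρ c a v0 1 1 0 0
    rw [hw4]
    unfold V4
    have : (4 * s * (1 + 1 + 0 + 0)) = s := by linear_combination s * h7
    rw [this]
    have : (4 * s * (1 + 1 - 0 - 0)) = s := by linear_combination s * h7
    rw [this]
    module
  · change w (V4 ρ c a v0 1 (-1) 2 0) = s • V4 ρ c a v0 1 (-1) 2 0
    rw [hw4]
    unfold V4
    have : (4 * s * (1 + -1 + 2 + 0)) = s := by linear_combination s * h7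
    rw [this]
    have : (4 * s * (1 + -1 - 2 - 0)) = -s := by linear_combination -s * h7
    rw [this]
    have : (4 * s * (1 - -1 + 2 - 0)) = s * 2 := by linear_combination 2 * s * h7
    rw [this]
    module
  · change w (V4 ρ c a v0 1 (-1) (-1) 3) = s • V4 ρ c a v0 1 (-1) (-1) 3
    rw [hw4]
    unfold V4
    have : (4 * s * (1 + -1 + -1 + 3)) = s := by linear_combination s * h7
    rw [this]
    have : (4 * s * (1 + -1 - -1 - 3)) = -s := by linear_combination -s * h7
    rw [this]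
    have : (4 * s * (1 - -1 + -1 - 3)) = -s := by linear_combination -s * h7
    rw [this]
    have : (4 * s * (1 - -1 - -1 + 3)) = s * 3 := by linear_combination 3 * s * h7
    rw [this]
    module
  · exact e2 1 (by decide)
  · exact e2 F4.w (by decide)
  · exact e2 F4.v (by decide)

end vectors

section gram

variable {ρ : G →* Module.End F (ι → F)} {c : Conf C} {a : G} {v0 : ι → F}
variable (D : Dt C c ρ) (ha : RH.IsA ρ C a) (hv : v0 ∈ W (RH.Ta ρ c) (0, 0))
  (Q : QuadraticForm F (ι → F)) (hQ : ∀ g v, Q (ρ g v) = Q v)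

include D ha hv hQ in
theorem gram_nvec : gram (⇑Q) (nvec ρ c a v0) = Matrix.diagonal ![8 * Q v0, 20 * Q v0, 20 * Q v0, 20 * Q v0] := by
  have p4 := fun x y z t x' y' z' t' => polar_V4 D ha hv Q hQ x y z t x' y' z' t'
  have p2 := fun {j : F4} (hj : j ≠ 0) x y x' y' => polar_V2 D ha hv Q hQ hj x y x' y'
  have p42 := fun {j : F4} (hj : j ≠ 0) x y z t x' y' => polar_V42 D ha hv Q hQ hj x y z t x' y'
  have p24 : ∀ {j : F4} (hj : j ≠ 0) x y z t x' y', QuadraticMap.polar (⇑Q) (V2 ρ c a v0 j x' y') (V4 ρ c a v0 x y z t) = 0 :=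
    fun hj x y z t x' y' => by rw [QuadraticMap.polar_comm]; exact p42 hj _ _ _ _ _ _
  have p22 := fun {i j : F4} (hij : i ≠ j) x y x' y' => polar_V22 D ha hv Q hQ hij x y x' y'
  have n1 : (1 : F4) ≠ 0 := by decide
  have nw : F4.w ≠ 0 := by decide
  have nv : F4.v ≠ 0 := by decide
  have n1w : (1 : F4) ≠ F4.w := by decide
  have n1v : (1 : F4) ≠ F4.v := by decide
  have nwv : F4.w ≠ F4.v := by decide
  ext i j
  change QuadraticMap.polar (⇑Q) (nvec ρ c a v0 i) (nvec ρ c a v0 j) = _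
  fin_cases i <;> fin_cases j <;>
    simp [nvec, p4, p2 n1, p2 nw, p2 nv, p42 n1, p42 nw, p42 nv, p24 n1, p24 nw, p24 nv, p22 n1w, p22 n1w.symm,
      p22 n1v, p22 n1v.symm, p22 nwv, p22 nwv.symm] <;> norm_num

include D ha hv hQ in
theorem gram_pvec : gram (⇑Q) (pvec ρ c a v0) = Matrix.diagonal ![4 * Q v0, 12 * Q v0, 24 * Q v0, 10 * Q v0,
    10 * Q v0, 10 * Q v0] := by
  have p4 := fun x y z t x' y' z' t' => polar_V4 D ha hv Q hQ x y z t x' y' z' t'
  have p2 := fun {j : F4} (hj : j ≠ 0) x y x' y' => polar_V2 D ha hv Q hQ hj x y x' y'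
  have p42 := fun {j : F4} (hj : j ≠ 0) x y z t x' y' => polar_V42 D ha hv Q hQ hj x y z t x' y'
  have p24 : ∀ {j : F4} (hj : j ≠ 0) x y z t x' y', QuadraticMap.polar (⇑Q) (V2 ρ c a v0 j x' y') (V4 ρ c a v0 x y z t) = 0 :=
    fun hj x y z t x' y' => by rw [QuadraticMap.polar_comm]; exact p42 hj _ _ _ _ _ _
  have p22 := fun {i j : F4} (hij : i ≠ j) x y x' y' => polar_V22 D ha hv Q hQ hij x y x' y'
  have n1 : (1 : F4) ≠ 0 := by decide
  have nw : F4.w ≠ 0 := by decide
  have nv : F4.v ≠ 0 := by decide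
  have n1w : (1 : F4) ≠ F4.w := by decide
  have n1v : (1 : F4) ≠ F4.v := by decide
  have nwv : F4.w ≠ F4.v := by decide
  ext i j
  change QuadraticMap.polar (⇑Q) (pvec ρ c a v0 i) (pvec ρ c a v0 j) = _
  fin_cases i <;> fin_cases j <;>
    simp [pvec, p4, p2 n1, p2 nw, p2 nv, p42 n1, p42 nw, p42 nv, p24 n1, p24 nw, p24 nv, p22 n1w, p22 n1w.symm,
      p22 n1v, p22 n1v.symm, p22 nwv, p22 nwv.symm] <;> norm_num

end gram

theorem eq_one_of_ac {Q : (ι → F) → F} {g : Cfsg.isometryGroup F Q} (h : ∀ v, ac g v = v) : g = 1 := by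
  apply Subtype.ext
  apply Units.ext
  apply Matrix.toLin'.injective
  apply LinearMap.ext
  intro v
  rw [Matrix.toLin'_apply]
  change ac g v = Matrix.toLin' (1 : Matrix ι ι F) v
  rw [h, Matrix.toLin'_one]; rfl

/-- **The graph automorphism of `2.L3(4)` is not induced by an element of `Ω₁₀(7)`**; an isometry inducing it has
determinant one. -/
theorem swap_thm [Fintype F] [DecidableEq F] (hF : Fintype.card F = 7) {ρ : G →* Module.End F (ι → F)} {c : Conf C}
    {a b : G} {v0 : ι → F} (D : Dt C c ρ) (ha : RH.IsA ρ C a) (hb : RH.IsB ρ C b) (hv : v0 ∈ W (RH.Ta ρ c) (0, 0))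
    (h0 : v0 ≠ 0) (Q : QuadraticForm F (ι → F)) (hnd : (QuadraticMap.polarBilin Q).Nondegenerate)
    (hQ : ∀ g v, Q (ρ g v) = Q v) (hQ0 : Q v0 ≠ 0) (g : Cfsg.isometryGroup F (⇑Q)) {w : (ι → F) →ₗ[F] (ι → F)}
    (hg : ∀ v, ac g v = w v) (S : SwV ρ c a b w) :
    ((g : Matrix.GeneralLinearGroup ι F) : Matrix ι ι F).det = 1 ∧
      (g : Matrix.GeneralLinearGroup ι F) ∉ Cfsg.Geo.omegaGL (⇑Q) := by
  have h2 := D.R.two
  have h7 : (7 : F) = 0 := by
    have := FiniteField.cast_card_eq_zero F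
    rw [hF] at this; exact_mod_cast this
  have hcard : Fintype.card ι = 10 := by
    have := D.R.dim
    rwa [Module.finrank_fintype_fun_eq_card] at this
  -- the constant `r`
  obtain ⟨r, hr0, e0, e1, e2, e3⟩ := D.b_ff ha hv hb h0
  have hr := D.eq_r ha hb hv h0 hr0 e0 e1 e2 e3
  have hr2 : r = -2 := by
    have h3 : (r + 2) * (r + 2) = 0 := by
      apply mul_left_cancel₀ h2
      linear_combination hr + (r + 1) * h7
    have h4 : r + 2 = 0 := mul_self_eq_zero.1 h3
    linear_combination h4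
  have hri : r⁻¹ = 3 := by
    rw [inv_eq_iff_eq_inv, eq_comm, inv_eq_of_mul_eq_one_left]
    rw [hr2]; linear_combination -h7
  -- the shape of `w`
  obtain ⟨k, w0, w1, w2⟩ := S.form D ha hv h0 e2
  rw [hri] at w1 w2
  have m4 := map_V4 (w := w) w0
  have m2 := fun {j : F4} (hj : j ≠ 0) x y => map_V2 (w := w) w1 w2 hj x y
  have hQw : ∀ v, Q (w v) = Q v := by
    intro v
    rw [← hg]
    exact g.2 v v
  have hk : k * k = 2 := by
    have h3 : V4 ρ c a v0 1 0 0 0 = vv ρ c a v0 0 0 := by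
      unfold V4; module
    have h4 := m4 1 0 0 0
    have h5 := hQw (V4 ρ c a v0 1 0 0 0)
    have h6 : QuadraticMap.polar (⇑Q) (w (V4 ρ c a v0 1 0 0 0)) (w (V4 ρ c a v0 1 0 0 0)) =
        QuadraticMap.polar (⇑Q) (V4 ρ c a v0 1 0 0 0) (V4 ρ c a v0 1 0 0 0) := by
      rw [QuadraticMap.polar_self, QuadraticMap.polar_self, h5]
    rw [h4, polar_V4 D ha hv Q hQ, polar_V4 D ha hv Q hQ] at h6
    have h8 : 2 * Q v0 ≠ 0 := mul_ne_zero h2 hQ0
    apply mul_left_cancel₀ h8
    linear_combination 2 * h6 - (2 * Q v0 * k * k + 2 * Q v0 * (1 - 1)) * h7 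
  obtain ⟨s, hs, hks⟩ : ∃ s : F, (s = 1 ∨ s = -1) ∧ k = 4 * s := by
    have h3 : (k - 4) * (k + 4) = 0 := by linear_combination hk - 2 * h7
    rcases mul_eq_zero.1 h3 with h4 | h4
    · exact ⟨1, Or.inl rfl, by linear_combination h4⟩
    · exact ⟨-1, Or.inr rfl, by linear_combination h4⟩
  have hss : s * s = 1 := by
    rcases hs with rfl | rfl
    · exact one_mul 1
    · norm_num
  have hw4 : ∀ x y z t, w (V4 ρ c a v0 x y z t) = V4 ρ c a v0 (4 * s * (x + y + z + t)) (4 * s * (x + y - z - t))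
      (4 * s * (x - y + z - t)) (4 * s * (x - y - z + t)) := by
    intro x y z t
    rw [m4, hks]
  have hw2 : ∀ j, j ≠ 0 → ∀ x y, w (V2 ρ c a v0 j x y) = V2 ρ c a v0 j (5 * s * (x + y)) (5 * s * (x - y)) := by
    intro j hj x y
    rw [m2 hj, hks, show 4 * s * 3 = 5 * s by linear_combination s * h7]
  have hn : ∀ i, ac g (nvec ρ c a v0 i) = (-s) • nvec ρ c a v0 i := fun i => by
    rw [hg]; exact map_nvec h7 hw4 hw2 i
  have hp : ∀ i, ac g (pvec ρ c a v0 i) = s • pvec ρ c a v0 i := fun i => by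
    rw [hg]; exact map_pvec h7 hw4 hw2 i
  -- `w² = 1`
  have ww4 : ∀ x y z t, w (w (V4 ρ c a v0 x y z t)) = V4 ρ c a v0 x y z t := by
    intro x y z t
    rw [hw4, hw4]
    congr 1
    · linear_combination 64 * x * hss + 9 * x * h7
    · linear_combination 64 * y * hss + 9 * y * h7
    · linear_combination 64 * z * hss + 9 * z * h7
    · linear_combination 64 * t * hss + 9 * t * h7
  have ww2 : ∀ j, j ≠ 0 → ∀ x y, w (w (V2 ρ c a v0 j x y)) = V2 ρ c a v0 j x y := by
    intro j hj x y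
    rw [hw2 j hj, hw2 j hj]
    congr 1
    · linear_combination 50 * x * hss + 7 * x * h7
    · linear_combination 50 * y * hss + 7 * y * h7
  have hww : w ∘ₗ w = LinearMap.id := by
    apply D.ext_v ha hv h0
    intro i j hgd
    change w (w (vv ρ c a v0 i j)) = vv ρ c a v0 i j
    by_cases hi : i = 0
    · subst hi
      have u0 : vv ρ c a v0 0 0 = V4 ρ c a v0 1 0 0 0 := by unfold V4; module
      have u1 : vv ρ c a v0 0 1 = V4 ρ c a v0 0 1 0 0 := by unfold V4; module
      have uw : vv ρ c a v0 0 F4.w = V4 ρ c a v0 0 0 1 0 := by unfold V4; module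
      have uv : vv ρ c a v0 0 F4.v = V4 ρ c a v0 0 0 0 1 := by unfold V4; module
      cases j
      · change w (w (vv ρ c a v0 0 0)) = vv ρ c a v0 0 0
        rw [u0]; exact ww4 _ _ _ _
      · change w (w (vv ρ c a v0 0 1)) = vv ρ c a v0 0 1
        rw [u1]; exact ww4 _ _ _ _
      · rw [uw]; exact ww4 _ _ _ _
      · rw [uv]; exact ww4 _ _ _ _
    · by_cases hj : j = 0
      · subst hj
        have u0 : vv ρ c a v0 i 0 = V2 ρ c a v0 i 1 0 := by unfold V2; module
        rw [u0]; exact ww2 i hi _ _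
      · rw [g4 i j hi hgd hj]
        have u0 : vv ρ c a v0 i i⁻¹ = V2 ρ c a v0 i 0 1 := by unfold V2; module
        rw [u0]; exact ww2 i hi _ _
  have hgg : g * g = 1 := by
    apply eq_one_of_ac
    intro v
    rw [ac_mul, hg, hg]
    exact LinearMap.congr_fun hww v
  -- Gram determinants
  have gn := gram_nvec D ha hv Q hQ
  have gp := gram_pvec D ha hv Q hQ
  have dn : (gram (⇑Q) (nvec ρ c a v0)).det = 64000 * Q v0 ^ 4 := by
    rw [gn, Matrix.det_diagonal]
    simp [Fin.prod_univ_succ]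
    ring
  have dp : (gram (⇑Q) (pvec ρ c a v0)).det = 1152000 * Q v0 ^ 6 := by
    rw [gp, Matrix.det_diagonal]
    simp [Fin.prod_univ_succ]
    ring
  have hone : (1 : F) ≠ 0 := one_ne_zero
  have hthree : (3 : F) ≠ 0 := by
    intro h
    apply hone
    linear_combination h7 - 2 * h
  have dn0 : (gram (⇑Q) (nvec ρ c a v0)).det ≠ 0 := by
    rw [dn, show (64000 : F) = -1 by linear_combination 9143 * h7]
    exact mul_ne_zero (neg_ne_zero.2 hone) (pow_ne_zero _ hQ0)
  have dp0 : (gram (⇑Q) (pvec ρ c a v0)).det ≠ 0 := by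
    rw [dp, show (1152000 : F) = 3 by linear_combination 164571 * h7]
    exact mul_ne_zero hthree (pow_ne_zero _ hQ0)
  have hns : ¬ IsSquare (-1 : F) := by
    rw [FiniteField.isSquare_neg_one_iff, hF]
    norm_num
  have snn : ¬ IsSquare (gram (⇑Q) (nvec ρ c a v0)).det := by
    rintro ⟨y, hy⟩
    apply hns
    refine ⟨y / Q v0 ^ 2, ?_⟩
    rw [dn, show (64000 : F) = -1 by linear_combination 9143 * h7] at hy
    field_simp
    linear_combination hy
  have snp : ¬ IsSquare (gram (⇑Q) (pvec ρ c a v0)).det := by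
    rintro ⟨y, hy⟩
    apply hns
    refine ⟨3 * y / Q v0 ^ 3, ?_⟩
    rw [dp, show (1152000 : F) = 3 by linear_combination 164571 * h7] at hy
    field_simp
    linear_combination 9 * hy - 4 * Q v0 ^ 6 * h7
  rcases hs with rfl | rfl
  · have hn' : ∀ i, ac g (nvec ρ c a v0 i) = - nvec ρ c a v0 i := fun i => by rw [hn, neg_one_smul]
    have hp' : ∀ i, ac g (pvec ρ c a v0 i) = pvec ρ c a v0 i := fun i => by rw [hp, one_smul]
    constructor
    · have := (spinor_gram' h2 Q g hgg _ hn' dn0 _ hp' dp0 (by rw [hcard])).2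
      rw [this]; norm_num
    · intro hmem
      exact snn (isSquare_of_mem h2 Q hnd (by rw [hcard]; norm_num) g hmem hgg _ hn' dn0
        (finrank_em_le h2 Q g _ hp' dp0 (by rw [hcard]))).2
  · have hn' : ∀ i, ac g (nvec ρ c a v0 i) = nvec ρ c a v0 i := fun i => by rw [hn, neg_neg, one_smul]
    have hp' : ∀ i, ac g (pvec ρ c a v0 i) = - pvec ρ c a v0 i := fun i => by rw [hp, neg_one_smul]
    constructor
    · have := (spinor_gram' h2 Q g hgg _ hp' dp0 _ hn' dn0 (by rw [hcard])).2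
      rw [this]; norm_num
    · intro hmem
      exact snp (isSquare_of_mem h2 Q hnd (by rw [hcard]; norm_num) g hmem hgg _ hp' dp0
        (finrank_em_le h2 Q g _ hn' dn0 (by rw [hcard]))).2

end Cfsg.Agent.H869.L34
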