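import Cfsg.Agent.H840.L34.Kill
import Cfsg.Agent.H869.L34.Perm
import Cfsg.Agent.H869.L34.Swap2
import Cfsg.Agent.H932.TypeClass
import Cfsg.Agent.H933.O10.Base

/-!
# `PSL_3(4)` is not maximal in `Ω₁₀(q)`, `q` odd (helper869)
-/

set_option autoImplicit false
set_option linter.constructorNameAsVariable false
set_option linter.unusedSectionVars false

namespace Cfsg.Agent.H869.L34

open Cfsg.Agent.Lib.FieldFour Cfsg Cfsg.Geo H915.LD H906.T14
open Cfsg.Agent.H840.L34 Cfsg.Agent.H840.L34.Dt Cfsg.Agent.H932.Spinor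
open scoped Matrix MatrixGroups

universe u v

theorem det_omega {ι : Type} [Fintype ι] [DecidableEq ι] {F : Type u} [Field F] {Q : (ι → F) → F} {g : GL ι F}
    (hg : g ∈ omegaGL Q) : (g : Matrix ι ι F).det = 1 := by
  obtain ⟨y, hy, rfl⟩ := hg
  have h1 := Abelianization.commutator_subset_ker
    ((Matrix.GeneralLinearGroup.det : GL ι F →* Fˣ).comp (Cfsg.isometryGroup F Q).subtype) hy
  have h2 := congrArg Units.val (MonoidHom.mem_ker.1 h1)
  exact h2

section

variable {F : Type u} [Field F] {P : Subgroup (GL (Fin 10) F)} {C : Cv P} {c : Conf C} {a b : P}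

/-- group relations give relations of linear maps -/
theorem Sw.swv {x : GL (Fin 10) F} (S : Sw c a b x) :
    SwV (rp P) c a b (Matrix.toLin' (x : Matrix (Fin 10) (Fin 10) F)) where
  k12 t v := by
    rw [Matrix.toLin'_apply, Matrix.toLin'_apply, rp_apply, rp_apply, ← mul_vec, ← mul_vec, S.k12]
  k23 t v := by
    rw [Matrix.toLin'_apply, Matrix.toLin'_apply, rp_apply, rp_apply, ← mul_vec, ← mul_vec, S.k23]
  k13 t v := by
    rw [Matrix.toLin'_apply, Matrix.toLin'_apply, rp_apply, rp_apply, ← mul_vec, ← mul_vec, S.k13]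
  kh v := by
    rw [Matrix.toLin'_apply, Matrix.toLin'_apply, rp_apply, rp_apply, ← mul_vec, ← mul_vec, S.kh]
  ka v := by
    rw [Matrix.toLin'_apply, Matrix.toLin'_apply, rp_apply, rp_apply, ← mul_vec, ← mul_vec, S.ka]

theorem det_of_scalar {x : GL (Fin 10) F} {s : F} (h : (x : Matrix (Fin 10) (Fin 10) F) = s • (1 : Matrix (Fin 10) (Fin 10) F)) :
    (x : Matrix (Fin 10) (Fin 10) F).det = s ^ 10 := by
  rw [h, Matrix.det_smul, Matrix.det_one, mul_one, Fintype.card_fin]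

theorem sq_of_scalar {Q : (Fin 10 → F) → F} (hQ : IsNondegenerateQuadraticForm Q) {x : GL (Fin 10) F}
    (hx : ∀ v, Q ((x : Matrix (Fin 10) (Fin 10) F) *ᵥ v) = Q v) {s : F}
    (hs : (x : Matrix (Fin 10) (Fin 10) F) = s • (1 : Matrix (Fin 10) (Fin 10) F)) : s ^ 2 = 1 := by
  obtain ⟨v, hv⟩ := H879.TL.exists_ne_of_nondeg hQ
  have h2 := hx v
  rw [hs, Matrix.smul_mulVec, Matrix.one_mulVec, hQ.smul] at h2
  have h4 : (s ^ 2 - 1) * Q v = 0 := by rw [sub_mul, h2, one_mul, sub_self]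
  exact sub_eq_zero.1 ((mul_eq_zero.1 h4).resolve_right hv)

end

section final

variable {F : Type u} [Field F] [Fintype F] {P H : Subgroup (GL (Fin 10) F)} {C : Cv P} {c : Conf C} {a b : P}
  {v0 : Fin 10 → F}

/-- the form on the monomial basis -/
theorem Q_B (D : Dt C c (rp P)) (ha : RH.IsA (rp P) C a) (hv : v0 ∈ W (RH.Ta (rp P) c) (0, 0)) (h0 : v0 ≠ 0)
    (Q : QuadraticForm F (Fin 10 → F)) (hQρ : ∀ (g : P) (v : Fin 10 → F), Q (rp P g v) = Q v) (k : Om) :
    Q (D.B ha hv h0 k) = Q v0 := by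
  rw [D.B_apply]
  exact Q_vv Q hQρ k.1.1 k.1.2

theorem polar_B (D : Dt C c (rp P)) (ha : RH.IsA (rp P) C a) (hv : v0 ∈ W (RH.Ta (rp P) c) (0, 0)) (h0 : v0 ≠ 0)
    (Q : QuadraticForm F (Fin 10 → F)) (hQρ : ∀ (g : P) (v : Fin 10 → F), Q (rp P g v) = Q v) (k l : Om) (hkl : k ≠ l) :
    QuadraticMap.polar (⇑Q) (D.B ha hv h0 k) (D.B ha hv h0 l) = 0 := by
  rw [D.B_apply, D.B_apply]
  exact polar_vv D ha hv Q hQρ k.2 l.2 (fun h => hkl (Subtype.ext h))

theorem Q_v0_ne (D : Dt C c (rp P)) (ha : RH.IsA (rp P) C a) (hv : v0 ∈ W (RH.Ta (rp P) c) (0, 0)) (h0 : v0 ≠ 0)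
    (Q : QuadraticForm F (Fin 10 → F)) (hQ : IsNondegenerateQuadraticForm (⇑Q))
    (hQρ : ∀ (g : P) (v : Fin 10 → F), Q (rp P g v) = Q v) : Q v0 ≠ 0 := by
  intro h
  obtain ⟨v, hv'⟩ := H879.TL.exists_ne_of_nondeg hQ
  apply hv'
  have h1 : ∀ x y, QuadraticMap.polar (⇑Q) x y = 0 := by
    intro x y
    have h2 : QuadraticMap.polarBilin Q = 0 := by
      apply (D.B ha hv h0).ext
      intro k
      apply (D.B ha hv h0).ext
      intro l
      change QuadraticMap.polar (⇑Q) (D.B ha hv h0 k) (D.B ha hv h0 l) = 0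
      by_cases hkl : k = l
      · subst hkl
        rw [QuadraticMap.polar_self, Q_B D ha hv h0 Q hQρ, h, smul_zero]
      · exact polar_B D ha hv h0 Q hQρ k l hkl
    exact LinearMap.congr_fun (LinearMap.congr_fun h2 x) y
  have h3 := h1 v v
  rw [QuadraticMap.polar_self, two_nsmul, ← two_mul] at h3
  exact (mul_eq_zero.1 h3).resolve_left D.R.two

/-- the group `O.Q` is too small to contain the even permutation matrices -/
theorem not_pm_le {g u : GL (Fin 10) F} (O : Ov c a b g u) (h2 : (2 : F) ≠ 0)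
    (hz : ((C.z : GL (Fin 10) F) : Matrix (Fin 10) (Fin 10) F) = -1) (B : Module.Basis Om F (Fin 10 → F))
    (h : ∀ σ : Equiv.Perm Om, Equiv.Perm.sign σ = 1 → pm B σ ∈ O.Q) : False := by
  classical
  have hzQ : (C.z : GL (Fin 10) F) ∈ O.Q := O.P_le C.z.2
  have hzz : (C.z : GL (Fin 10) F) * C.z = 1 := congrArg Subtype.val C.zz
  let f : ℤˣ × alternatingGroup Om → O.Q := fun t =>
    ⟨(if t.1 = 1 then 1 else (C.z : GL (Fin 10) F)) * pm B t.2, O.Q.mul_mem (by
      split_ifs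
      · exact O.Q.one_mem
      · exact hzQ) (h _ t.2.2)⟩
  have hvec : ∀ (t : ℤˣ × alternatingGroup Om) (k : Om), ((f t : GL (Fin 10) F) : Matrix (Fin 10) (Fin 10) F) *ᵥ B k =
      ((t.1 : ℤ) : F) • B ((t.2 : Equiv.Perm Om) k) := by
    intro t k
    change ((((if t.1 = 1 then 1 else (C.z : GL (Fin 10) F)) * pm B t.2 : GL (Fin 10) F)) :
      Matrix (Fin 10) (Fin 10) F) *ᵥ B k = _
    rw [mul_vec, pm_vec]
    rcases Int.units_eq_one_or t.1 with h1 | h1
    · rw [h1, if_pos rfl, Units.val_one, Matrix.one_mulVec, Units.val_one, Int.cast_one, one_smul]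
    · rw [h1, if_neg (by decide), hz, Matrix.neg_mulVec, Matrix.one_mulVec, Units.val_neg, Units.val_one,
        Int.cast_neg, Int.cast_one, neg_one_smul]
  have hf : Function.Injective f := by
    intro t t' htt
    have h3 : ∀ k, ((t.1 : ℤ) : F) • B ((t.2 : Equiv.Perm Om) k) = ((t'.1 : ℤ) : F) • B ((t'.2 : Equiv.Perm Om) k) := by
      intro k
      rw [← hvec, ← hvec, htt]
    have h4 : ∀ k, (t.2 : Equiv.Perm Om) k = (t'.2 : Equiv.Perm Om) k := by
      intro k
      by_contra hne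
      have h5 := congrArg (fun v => B.repr v ((t.2 : Equiv.Perm Om) k)) (h3 k)
      simp only [map_smul, Module.Basis.repr_self, Finsupp.smul_apply, Finsupp.single_eq_same, smul_eq_mul, mul_one] at h5
      rw [Finsupp.single_apply, if_neg (fun h => hne h.symm), mul_zero] at h5
      exact unit_ne_zero _ h5
    have h5 : t.1 = t'.1 := by
      have h6 := h3 ⟨(0, 0), by decide⟩
      rw [h4] at h6
      have h7 := congrArg (fun v => B.repr v ((t'.2 : Equiv.Perm Om) ⟨(0, 0), by decide⟩)) h6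
      simp only [map_smul, Module.Basis.repr_self, Finsupp.smul_apply, Finsupp.single_eq_same, smul_eq_mul, mul_one] at h7
      exact unit_ne h2 h7
    exact Prod.ext h5 (Subtype.ext (Equiv.ext h4))
  have h1 := Nat.card_le_card_of_injective f hf
  rw [Nat.card_prod] at h1
  have h3 : 2 * Nat.card (alternatingGroup Om) = 3628800 := by
    have : Nontrivial Om := ⟨⟨⟨(0, 0), by decide⟩, ⟨(0, 1), by decide⟩, by decide⟩⟩
    have h4 := nat_card_alternatingGroup (α := Om)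
    have h5 : Nat.card Om = 10 := by rw [Nat.card_eq_fintype_card]; rfl
    rw [h4, h5]
    norm_num [Nat.factorial]
  have h4 : Nat.card ℤˣ = 2 := by rw [Nat.card_eq_fintype_card, Fintype.card_units_int]
  have h5 := card_Q_le O
  rw [card_P C] at h5
  rw [h4, h3] at h1
  omega

/-- **The case of seven elements.** -/
theorem kill7 (D : Dt C c (rp P)) (ha : RH.IsA (rp P) C a) (hb : RH.IsB (rp P) C b)
    (hac : ∃ γ : P, a = γ * c.X23 1 * γ⁻¹) (hbc : ∃ γ : P, b = γ * c.X23 1 * γ⁻¹)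
    (hv : v0 ∈ W (RH.Ta (rp P) c) (0, 0)) (h0 : v0 ≠ 0)
    (hz : ((C.z : GL (Fin 10) F) : Matrix (Fin 10) (Fin 10) F) = -1)
    (Q : QuadraticForm F (Fin 10 → F)) (hQ : IsNondegenerateQuadraticForm (⇑Q))
    (hnd : (QuadraticMap.polarBilin Q).Nondegenerate)
    (hH : IsMaximalIn (omegaGL (⇑Q)) H) (hR : IsResidualCore H P) (hF : Fintype.card F = 7) : False := by
  classical
  have h2 := D.R.two
  have h1 := D.e1
  have hC := core_of_residual hR
  have hPΩ : P ≤ omegaGL (⇑Q) := hR.le.trans hH.1.le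
  have hQρ : ∀ (g : P) (v : Fin 10 → F), Q (rp P g v) = Q v := fun g v =>
    H933.O10.fix_of_mem_omegaGL (hPΩ g.2) v
  have hQ0 := Q_v0_ne D ha hv h0 Q hQ hQρ
  -- the overgroup
  have O : Ov c a b (pm (D.B ha hv h0) σg) (pm (D.B ha hv h0) σu) := ov D ha hb hv h0 hz
  have hpm : ∀ σ : Equiv.Perm Om, Equiv.Perm.sign σ = 1 → pm (D.B ha hv h0) σ ∈ omegaGL (⇑Q) := fun σ hσ =>
    pm_omega (D.B ha hv h0) h2 Q (Q_B D ha hv h0 Q hQρ) (polar_B D ha hv h0 Q hQρ) hnd hσ
  have hgΩ := hpm _ sign_σg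
  have hu_iso : ∀ v, Q ((pm (D.B ha hv h0) σu : Matrix (Fin 10) (Fin 10) F) *ᵥ v) = Q v :=
    H957.mem_isometryGroup.1 (pm_iso (D.B ha hv h0) h2 Q (Q_B D ha hv h0 Q hQρ) (polar_B D ha hv h0 Q hQρ) σu)
  have hu_det : (pm (D.B ha hv h0) σu : Matrix (Fin 10) (Fin 10) F).det = -1 := by
    rw [pm_det, sign_σu, Units.val_neg, Units.val_one, Int.cast_neg, Int.cast_one]
  have E : Ex7 c a b (tr : GL (Fin 10) F → F) := by
    refine ⟨h1, D.R.not_triv c h1, hac, hbc, fun x y => tr_conj x y, ?_⟩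
    have t1 : tr ((c.X23 1 : P) : GL (Fin 10) F) = 2 := by
      rw [← tr_rp]; exact D.R.trace_23 c h1 one_ne_zero
    have t2 : tr ((C.z * c.X23 1 : P) : GL (Fin 10) F) = -2 := by
      have e : rp P (C.z * c.X23 1) = -rp P (c.X23 1) := by
        rw [map_mul, D.R.z]
        exact LinearMap.ext fun v => rfl
      rw [← tr_rp, e, map_neg, D.R.trace_23 c h1 one_ne_zero]
    rw [t1, t2]
    intro h
    have h3 : (2 : F) * 2 = 0 := by linear_combination h
    rcases mul_eq_zero.1 h3 with h4 | h4 <;> exact h2 h4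
  generalize hug : pm (D.B ha hv h0) σu = u at O hu_iso hu_det
  generalize hgg : pm (D.B ha hv h0) σg = g at O hgΩ
  have hdet1 : ∀ {x : GL (Fin 10) F}, x ∈ omegaGL (⇑Q) → (x : Matrix (Fin 10) (Fin 10) F).det = 1 := by
    intro x hx
    exact det_omega hx
  have hm1 : (-1 : F) ≠ 1 := by
    intro h
    apply h2
    linear_combination -h
  -- `H ≤ P`
  have hHP : H ≤ P := by
    intro h hh
    have hnm : Nm P h := ⟨fun y hy => hR.normal h hh y hy, fun y hy => by
      have := hR.normal h⁻¹ (H.inv_mem hh) y hy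
      rwa [inv_inv] at this⟩
    obtain ⟨p, hp, k, hk, hcase⟩ := norm_thm7 O E hnm
    have hpΩ := hPΩ hp
    have hhΩ := hH.1.le hh
    have hphΩ : p * h ∈ omegaGL (⇑Q) := Subgroup.mul_mem _ hpΩ hhΩ
    have hiso : ∀ v, Q (((p * h * k : GL (Fin 10) F) : Matrix (Fin 10) (Fin 10) F) *ᵥ v) = Q v := by
      intro v
      rw [mul_vec, H933.O10.fix_of_mem_omegaGL hphΩ]
      rcases hk with rfl | rfl
      · rw [Units.val_one, Matrix.one_mulVec]
      · exact hu_iso v
    have hdet : ((p * h * k : GL (Fin 10) F) : Matrix (Fin 10) (Fin 10) F).det = (k : Matrix (Fin 10) (Fin 10) F).det := by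
      rw [Units.val_mul, Matrix.det_mul, hdet1 hphΩ, one_mul]
    rcases hcase with hcomm | hS
    · have h3 := H920.mem_scalars_of_comm' hC.absIrred hcomm
      rw [mem_scalars_iff] at h3
      obtain ⟨s, hs⟩ := h3
      have hs2 := sq_of_scalar hQ hiso hs
      rcases hk with rfl | rfl
      · have h4 : (s : F) = 1 ∨ (s : F) = -1 := by
          have h5 : ((s : F) - 1) * (s + 1) = 0 := by linear_combination hs2
          rcases mul_eq_zero.1 h5 with h6 | h6
          · exact Or.inl (sub_eq_zero.1 h6)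
          · exact Or.inr (eq_neg_of_add_eq_zero_left h6)
        have h5 : p * h * 1 ∈ P := by
          rcases h4 with h4 | h4
          · have : p * h * 1 = 1 := by
              apply Units.ext
              rw [hs, h4, one_smul]; rfl
            rw [this]; exact P.one_mem
          · have : p * h * 1 = C.z := by
              apply Units.ext
              rw [hs, h4, hz, neg_one_smul]
            rw [this]; exact C.z.2
        rw [mul_one] at h5
        have h6 := P.mul_mem (P.inv_mem hp) h5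
        rwa [inv_mul_cancel_left] at h6
      · exfalso
        rw [det_of_scalar hs, hu_det] at hdet
        apply hm1
        rw [← hdet, show (s : F) ^ 10 = ((s : F) ^ 2) ^ 5 by ring, hs2, one_pow]
    · exfalso
      have hmem : (p * h * k : GL (Fin 10) F) ∈ Cfsg.isometryGroup F (⇑Q) := H957.mem_isometryGroup.2 hiso
      obtain ⟨d1, d2⟩ := swap_thm hF D ha hb hv h0 Q hnd hQρ hQ0 ⟨_, hmem⟩ (w := Matrix.toLin' _)
        (fun v => by rw [Matrix.toLin'_apply]) hS.swv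
      rcases hk with rfl | rfl
      · apply d2
        have h5 : p * h * 1 ∈ omegaGL (⇑Q) := by rw [mul_one]; exact hphΩ
        exact h5
      · change ((p * h * _ : GL (Fin 10) F) : Matrix (Fin 10) (Fin 10) F).det = 1 at d1
        rw [hdet, hu_det] at d1
        exact hm1 d1
  -- the group `O.Q`
  have hQΩ : O.Q ≤ omegaGL (⇑Q) := by
    intro x hx
    rcases O.mem_Q.1 hx with hx | ⟨p, hp, r, hr, rfl⟩
    · exact hPΩ hx
    · exact Subgroup.mul_mem _ (Subgroup.mul_mem _ (hPΩ hp) hgΩ) (hPΩ hr)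
  rcases hH.2 O.Q (fun x hx => O.P_le (hHP hx)) hQΩ with h3 | h3
  · have h4 : g ∈ H := by
      rw [← h3]
      exact O.g_mem
    apply O.not_nm
    exact ⟨fun y hy => hR.normal g h4 y hy, fun y hy => by
      have := hR.normal g⁻¹ (H.inv_mem h4) y hy
      rwa [inv_inv] at this⟩
  · exact not_pm_le O h2 hz (D.B ha hv h0) (fun σ hσ => by rw [h3]; exact hpm σ hσ)

end final

variable {F : Type u} [Field F] [Fintype F] {K : Type v} [Field K] [Fintype K]

/-- **`Ω₁₀(q)`, `q` odd : cores with socle `PSL_3(4)` are not maximal.** -/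
theorem kill_omega {Q : (Fin 10 → F) → F} (hQ : IsNondegenerateQuadraticForm Q) {H P : Subgroup (GL (Fin 10) F)}
    (hH : IsMaximalIn (omegaGL Q) H) (hR : IsResidualCore H P) (hK : Fintype.card K = 4)
    (e : Soc P ≃* Matrix.ProjectiveSpecialLinearGroup (Fin 3) K) (h2 : (2 : F) ≠ 0) : False := by
  classical
  obtain ⟨Q, rfl, hnd'⟩ := H883.Bridge.exists_quadraticForm hQ
  have hnd := H932.nondegenerate_polarBilin hnd'
  have hC := core_of_residual hR
  have hn : Fintype.card (Fin 10) = 10 := Fintype.card_fin 10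
  have hPΩ : P ≤ omegaGL (⇑Q) := hR.le.trans hH.1.le
  obtain ⟨z, hz⟩ := neg_one_mem hK hC hn h2 e
  obtain ⟨α, c, h1⟩ := exists_good (cv1 hK e hC hn h2 hz)
  have hzC : ((((cv1 hK e hC hn h2 hz).comp α).z : GL (Fin 10) F) : Matrix (Fin 10) (Fin 10) F) = -1 := hz
  have D : Dt ((cv1 hK e hC hn h2 hz).comp α) c (rp P) := ⟨rh _ hzC h2 hn, h1⟩
  obtain ⟨γ, hγ⟩ := c.exists_conj wa_g
  obtain ⟨δ, hδ⟩ := c.exists_conj wb_g
  have ha : RH.IsA (rp P) ((cv1 hK e hC hn h2 hz).comp α) (γ * c.X23 1 * γ⁻¹) :=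
    ⟨hγ, by rw [RH.trace_conj]; exact D.R.trace_23 c h1 one_ne_zero⟩
  have hb : RH.IsB (rp P) ((cv1 hK e hC hn h2 hz).comp α) (δ * c.X23 1 * δ⁻¹) :=
    ⟨hδ, by rw [RH.trace_conj]; exact D.R.trace_23 c h1 one_ne_zero⟩
  have hac : ∃ γ' : P, γ * c.X23 1 * γ⁻¹ = γ' * c.X23 1 * γ'⁻¹ := ⟨γ, rfl⟩
  have hbc : ∃ γ' : P, δ * c.X23 1 * δ⁻¹ = γ' * c.X23 1 * γ'⁻¹ := ⟨δ, rfl⟩
  generalize γ * c.X23 1 * γ⁻¹ = a at ha hac
  generalize δ * c.X23 1 * δ⁻¹ = b at hb hbc
  generalize hCC : (cv1 hK e hC hn h2 hz).comp α = CC at *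
  obtain ⟨v0, hv, h0⟩ : ∃ v, v ∈ W (RH.Ta (rp P) c) (0, 0) ∧ v ≠ 0 := by
    obtain ⟨u, hu, h0⟩ := D.R.exists_u c h1
    exact ⟨_, hu ⟨(0, 0), by decide⟩, h0 _⟩
  have hQρ : ∀ (g : P) (v : Fin 10 → F), Q (rp P g v) = Q v := fun g v =>
    H933.O10.fix_of_mem_omegaGL (hPΩ g.2) v
  -- elements of order seven
  have h7 : (7 : F) = 0 := by
    by_contra h7
    apply D.trace_ne ha hb hv h0 h7
    rw [tr_rp, tr_rp]
    have hsd := H933.O10.sd_of_le hQ hPΩ
    have e1 : tr ((b * a * c.X12 1 : P) : GL (Fin 10) F) = tr ((b * a * c.X23 1 : P) : GL (Fin 10) F) := by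
      have h3 : c.X12 1 = (b * a) * c.X23 1 * (b * a)⁻¹ := by
        have h4 := c.conj_a_23 ha.π 1
        have h5 := c.conj_b_13 hb.π 1
        rw [← h5, ← h4]; group
      have h6 : (b * a * c.X12 1 : P) = (b * a) * (b * a * c.X23 1) * (b * a)⁻¹ := by rw [h3]; group
      rw [h6]
      exact tr_conj _ _
    have e2 : tr ((b * a * c.X23 1 : P) : GL (Fin 10) F) = tr ((c.X23 1 * (b * a) : P) : GL (Fin 10) F) :=
      tr_mul_comm ((b * a : P) : GL (Fin 10) F) ((c.X23 1 : P) : GL (Fin 10) F)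
    have e3 : (c.X23 1 * (b * a) : P) = (a * b * c.X23 1)⁻¹ := by
      rw [mul_inv_rev, mul_inv_rev, c.f23.inv, inv_eq_of_mul_eq_one_right (Conf.sq_a ha.π),
        inv_eq_of_mul_eq_one_right (Conf.sq_b hb.π)]
    rw [e1, e2, e3]
    exact (hsd _ (a * b * c.X23 1).2).symm
  have h7c : CharP F 7 := by
    obtain ⟨p, hp⟩ := CharP.exists F
    have h3 : p ∣ 7 := (CharP.cast_eq_zero_iff F p 7).1 (by exact_mod_cast h7)
    rcases (Nat.dvd_prime (by norm_num)).1 h3 with h4 | h4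
    · subst h4
      exact absurd (CharP.cast_eq_zero_iff F 1 1 |>.2 (dvd_refl 1)) (by norm_num)
    · rwa [← h4]
  have : Fact (Nat.Prime 7) := ⟨by norm_num⟩
  have hF : Fintype.card F = 7 := hC.card_eq 7 ((l34_ten 7 hC (by norm_num) hK hn e).2.2 rfl).2
  subst hCC
  exact kill7 D ha hb hac hbc hv h0 hzC Q hQ hnd hH hR hF

/-- **The row `PSL_3(4)` of `S5848` and `S5851`.** -/
theorem o10_l34 {p : ℕ} {Q : (Fin 10 → F) → F} {H P : Subgroup (GL (Fin 10) F)} (h : H933.O10.Cx p Q H P)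
    (h2 : (2 : F) ≠ 0) (hK : Fintype.card K = 4) (e : Soc P ≃* Matrix.ProjectiveSpecialLinearGroup (Fin 3) K) : False :=
  kill_omega h.hQ h.hH h.hc hK e h2

end Cfsg.Agent.H869.L34
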