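import Cfsg.Agent.H840.L34.Nrm2

/-!
# The normaliser of `2.L3(4)` without a condition on elements of order seven (helper869)

`norm_thm7`: up to `P` and the field automorphism `u`, an element normalising `P` centralises `P` or induces the graph
automorphism.
-/

set_option autoImplicit false
set_option linter.constructorNameAsVariable false

namespace Cfsg.Agent.H869.L34

open Cfsg.Agent.Lib.FieldFour
open Cfsg.Agent.ClassicalGeometry.AutPSL.Auto
open Cfsg.Agent.H840.L34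

section kappa

variable {G : Type*} [Group G] {C : Cv G} (c : Conf C)

theorem caseII7 {F : Type*} (e1 : c.e 1 = 1) (ew : c.e F4.w = C.z) {a b : G} (ha : C.π a = q wa) (hb : C.π b = q wb)
    (ac : ∃ γ, a = γ * c.X23 1 * γ⁻¹) (bc : ∃ γ, b = γ * c.X23 1 * γ⁻¹)
    {χ : G → F} (cl : ∀ x y, χ (x * y * x⁻¹) = χ y) (nz : χ (c.X23 1) ≠ χ (C.z * c.X23 1))
    {κ : G ≃* G} (hχ : ∀ y, χ (κ y) = χ y) (hz : κ C.z = C.z) {m : F4} (hm : m ≠ 0)
    (k12 : ∀ t, C.π (κ (c.X12 t)) = q (x23 (m * t))) (k23 : ∀ t, C.π (κ (c.X23 t)) = q (x12 t))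
    (k13 : ∀ t, C.π (κ (c.X13 t)) = q (x13 (m * t))) (khh : C.π (κ c.h) = q hh)
    (ka : m = 1 → C.π (κ a) = q wb) (kb : m = 1 → C.π (κ b) = q wa) :
    (∀ t, κ (c.X12 t) = c.X23 t) ∧ (∀ t, κ (c.X23 t) = c.X12 t) ∧ (∀ t, κ (c.X13 t) = c.X13 t) ∧ κ c.h = c.h ∧
      κ a = b ∧ κ b = a := by
  have hk := kh c khh
  have f12 : ∀ t, κ (c.X12 (m⁻¹ * t)) = c.X23 t := fun t =>
    congrFun (c.f23.unique (Or.inr rfl) (kfam c hk (n := m⁻¹) c.f12 (fun t => by
      rw [k12, ← mul_assoc, mul_inv_cancel₀ hm, one_mul]))) t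
  have f23 : ∀ t, κ (c.X23 (1 * t)) = c.X12 t := fun t =>
    congrFun (c.f12.unique (Or.inr rfl) (kfam c hk (n := 1) c.f23 (fun t => by rw [k23, one_mul]))) t
  have f13 : ∀ t, κ (c.X13 (m⁻¹ * t)) = c.X13 t := fun t =>
    congrFun (c.f13.unique (Or.inl rfl) (kfam c hk (n := m⁻¹) c.f13 (fun t => by
      rw [k13, ← mul_assoc, mul_inv_cancel₀ hm, one_mul]))) t
  have hsymm : ∀ s t, c.X23 s * c.X12 t * c.X23 s * c.X12 t * c.X13 (t * s) = c.eps t s := by
    intro s t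
    have h1 : c.X23 s * c.X12 t * c.X23 s * c.X12 t = (c.X12 t * c.X23 s * c.X12 t * c.X23 s)⁻¹ := by
      simp only [mul_inv_rev, c.f12.inv, c.f23.inv, mul_assoc]
    have h2 : c.X12 t * c.X23 s * c.X12 t * c.X23 s = c.eps t s * c.X13 (t * s) := by
      unfold Conf.eps
      rw [mul_assoc (c.X12 t * c.X23 s * c.X12 t * c.X23 s), c.f13.sq, mul_one]
    have h3 : (c.eps t s)⁻¹ = c.eps t s := by
      rcases c.eps_or t s with h | h
      · rw [h, inv_one]
      · rw [h, C.zinv]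
    rw [h1, h2, mul_inv_rev, c.f13.inv, h3, ← c.eps_comm, mul_assoc, c.f13.sq, mul_one]
  have hm1 : m = 1 := by
    have h1 := eps_fix c hz (m⁻¹ * 1) 1
    unfold Conf.eps at h1
    have f1 := f23 1
    rw [one_mul] at f1
    rw [map_mul, map_mul, map_mul, map_mul, f12, f1, mul_assoc m⁻¹ 1 1, f13] at h1
    have h2 : c.eps 1 1 = c.eps (m⁻¹ * 1) 1 := by
      rw [← hsymm]
      unfold Conf.eps
      rw [mul_assoc m⁻¹ 1 1]; exact h1
    rw [c.eps_eq, c.eps_eq, mul_one, mul_one, mul_one, mul_one, e1] at h2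
    have h3 := e_inj c e1 ew (mul_ne_zero (inv_ne_zero hm) (inv_ne_zero hm)) h2.symm
    revert h3 hm
    clear * -
    revert m; decide
  subst hm1
  have g12 : ∀ t, κ (c.X12 t) = c.X23 t := fun t => by have := f12 t; rwa [inv_one, one_mul] at this
  have g23 : ∀ t, κ (c.X23 t) = c.X12 t := fun t => by have := f23 t; rwa [one_mul] at this
  have g13 : ∀ t, κ (c.X13 t) = c.X13 t := fun t => by have := f13 t; rwa [inv_one, one_mul] at this
  have hχk : ∀ y, (∃ γ, y = γ * c.X23 1 * γ⁻¹) → χ (κ y) = χ (c.X23 1) := by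
    rintro y ⟨γ, rfl⟩
    rw [hχ, cl]
  have hχz : ∀ y, (∃ γ, y = γ * c.X23 1 * γ⁻¹) → χ (C.z * y) = χ (C.z * c.X23 1) := by
    rintro y ⟨γ, rfl⟩
    rw [← C.zconj, cl]
  have e3 : κ a = b := by
    rcases C.eq_or ((ka rfl).trans hb.symm) with h | h
    · exact h
    · exfalso
      have h5 := hχk a ac
      rw [h, hχz b bc] at h5
      exact nz h5.symm
  have e4 : κ b = a := by
    rcases C.eq_or ((kb rfl).trans ha.symm) with h | h
    · exact h
    · exfalso
      have h5 := hχk b bc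
      rw [h, hχz a ac] at h5
      exact nz h5.symm
  exact ⟨g12, g23, g13, hk, e3, e4⟩

end kappa

variable {Γ : Type*} [Group Γ] {P : Subgroup Γ} {C : Cv P}

/-- the data used to control outer automorphisms -/
structure Ex7 {F : Type*} (c : Conf C) (a b : P) (χ : Γ → F) : Prop where
  e1 : c.e 1 = 1
  ew : c.e F4.w = C.z
  ac : ∃ γ : P, a = γ * c.X23 1 * γ⁻¹
  bc : ∃ γ : P, b = γ * c.X23 1 * γ⁻¹
  cl : ∀ x y, χ (x * y * x⁻¹) = χ y
  nz : χ (c.X23 1) ≠ χ ((C.z * c.X23 1 : P) : Γ)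

/-- the element `x` induces the graph automorphism -/
structure Sw (c : Conf C) (a b : P) (x : Γ) : Prop where
  k12 : ∀ t, x * (c.X12 t : Γ) = c.X23 t * x
  k23 : ∀ t, x * (c.X23 t : Γ) = c.X12 t * x
  k13 : ∀ t, x * (c.X13 t : Γ) = c.X13 t * x
  kh : x * (c.h : Γ) = c.h * x
  ka : x * (a : Γ) = b * x
  kb : x * (b : Γ) = a * x

/-- **The normaliser of `P`.** -/
theorem norm_thm7 {F : Type*} {c : Conf C} {a b : P} {g u : Γ} (O : Ov c a b g u) {χ : Γ → F} (E : Ex7 c a b χ)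
    {x : Γ} (hx : Nm P x) : ∃ p ∈ P, ∃ k, (k = 1 ∨ k = u) ∧
      ((∀ y ∈ P, (p * x * k) * y = y * (p * x * k)) ∨ Sw c a b (p * x * k)) := by
  have hzκ : ∀ {x : Γ} (h : Nm P x), kap P x h.h1 h.h2 C.z = C.z := by
    intro x h
    apply Subtype.ext
    rw [kap_apply, ← O.zc, mul_assoc, mul_inv_cancel, mul_one]
  obtain ⟨α, hα⟩ := exists_alpha C (hzκ hx)
  obtain ⟨A, m, σ, γ, hm, hγ, hform⟩ := aut_form α
  have fin : ∀ {w : Γ} (h : Nm P w), (∀ y, kap P w h.h1 h.h2 y = y) → ∀ y ∈ P, w * y = y * w := by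
    intro w h hw y hy
    have := congrArg Subtype.val (hw ⟨y, hy⟩)
    rw [kap_apply] at this
    exact mul_inv_eq_iff_eq_mul.1 this
  have fin2 : ∀ {w : Γ} (h : Nm P w) {y y' : P}, kap P w h.h1 h.h2 y = y' → w * (y : Γ) = y' * w := by
    intro w h y y' hy
    have := congrArg Subtype.val hy
    rw [kap_apply] at this
    exact mul_inv_eq_iff_eq_mul.1 this
  rcases hγ with rfl | rfl
  · obtain ⟨p0, hp0⟩ := C.exists_lift A⁻¹
    have n1 : Nm P (p0 * x) := (Nm.of_mem p0.2).mul hx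
    have k1 : ∀ (y : P) (s : S), C.π y = q s → C.π (kap P (p0 * x) n1.h1 n1.h2 y) = q (cj (DD m) (fld σ s)) := by
      intro y s hy
      have e1 : kap P (p0 * x) n1.h1 n1.h2 y = p0 * kap P x hx.h1 hx.h2 y * p0⁻¹ := by
        apply Subtype.ext
        rw [kap_apply, Subgroup.coe_mul, Subgroup.coe_mul, kap_apply, Subgroup.coe_inv]; group
      rw [e1, map_mul, map_mul, map_inv, ← hα, hy, hform, hp0, map_inv]
      simp only [MulAut.one_apply]
      group
    rcases ringEquiv_cases σ with hσ | hσ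
    · refine ⟨p0, p0.2, 1, Or.inl rfl, Or.inl ?_⟩
      rw [mul_one]
      apply fin n1
      apply caseI c E.e1 E.ew O.aπ O.bπ E.ac E.bc (hzκ n1) hm
      · intro t; rw [k1 _ _ (c.f12.lift t), fld_x12, hσ, dj_x12 m t hm]
      · intro t; rw [k1 _ _ (c.f23.lift t), fld_x23, hσ, dj_x23 m t hm]
      · intro t; rw [k1 _ _ (c.f13.lift t), fld_x13, hσ, dj_x13 m t hm]
      · rw [k1 _ _ c.hπ, fld_hh1 σ hσ, dj_hh m hm]
      · rintro rfl; rw [k1 _ _ O.aπ, fld_wa, dj_wa]
      · rintro rfl; rw [k1 _ _ O.bπ, fld_wb, dj_wb 1 one_ne_zero]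
    · have n2 : Nm P (p0 * x * u) := n1.mul O.nm_u
      refine ⟨p0, p0.2, u, Or.inr rfl, Or.inl ?_⟩
      apply fin n2
      have k2 : ∀ (y : P) (y' : P) (s : S), u * (y : Γ) = y' * u → C.π y' = q s →
          C.π (kap P (p0 * x * u) n2.h1 n2.h2 y) = q (cj (DD m) (fld σ s)) := by
        intro y y' s hyy hy
        rw [← k1 y' s hy]
        congr 1
        apply Subtype.ext
        rw [kap_apply, kap_apply, mul_assoc (_ * _) u, hyy]
        group
      have hσ2 : ∀ t, σ (t * t) = t := by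
        intro t; rw [hσ]; revert t; decide
      apply caseI c E.e1 E.ew O.aπ O.bπ E.ac E.bc (hzκ n2) hm
      · intro t; rw [k2 _ _ _ (O.u12 t) (c.f12.lift _), fld_x12, hσ2, dj_x12 m t hm]
      · intro t; rw [k2 _ _ _ (O.u23 t) (c.f23.lift _), fld_x23, hσ2, dj_x23 m t hm]
      · intro t; rw [k2 _ _ _ (O.u13 t) (c.f13.lift _), fld_x13, hσ2, dj_x13 m t hm]
      · have huh : u * (c.h : Γ) = ((c.h⁻¹ : P) : Γ) * u := by
          rw [Subgroup.coe_inv, eq_inv_mul_iff_mul_eq, ← mul_assoc]; exact O.uh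
        rw [k2 _ _ hi huh (by rw [map_inv, c.hπ, ← map_inv, ← hi_eq]), fld_hi2 σ hσ, dj_hh m hm]
      · rintro rfl; rw [k2 _ _ _ O.ua O.aπ, fld_wa, dj_wa]
      · rintro rfl; rw [k2 _ _ _ O.ub O.bπ, fld_wb, dj_wb 1 one_ne_zero]
  · obtain ⟨p0, hp0⟩ := C.exists_lift (w13 * A⁻¹)
    have n1 : Nm P (p0 * x) := (Nm.of_mem p0.2).mul hx
    have k1 : ∀ (y : P) (s s' s'' : S), C.π y = q s → cj (DD m) (fld σ (itr s)) = s' → w13 * s' = s'' * w13 →
        C.π (kap P (p0 * x) n1.h1 n1.h2 y) = q s'' := by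
      intro y s s' s'' hy hs hw
      have e1 : kap P (p0 * x) n1.h1 n1.h2 y = p0 * kap P x hx.h1 hx.h2 y * p0⁻¹ := by
        apply Subtype.ext
        rw [kap_apply, Subgroup.coe_mul, Subgroup.coe_mul, kap_apply, Subgroup.coe_inv]; group
      rw [e1, map_mul, map_mul, map_inv, ← hα, hy, hform, hp0, hs, map_mul, map_inv]
      have e2 : q w13 * q s' = q s'' * q w13 := by rw [← map_mul, hw, map_mul]
      calc q w13 * (q A)⁻¹ * (q A * q s' * (q A)⁻¹) * (q w13 * (q A)⁻¹)⁻¹ = (q w13 * q s') * (q w13)⁻¹ := by group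
        _ = q s'' := by rw [e2]; group
    rcases ringEquiv_cases σ with hσ | hσ
    · refine ⟨p0, p0.2, 1, Or.inl rfl, Or.inr ?_⟩
      rw [mul_one]
      obtain ⟨r12, r23, r13, rh, ra, rb⟩ := caseII7 (F := F) (χ := fun y : P => χ y) c E.e1 E.ew O.aπ O.bπ E.ac E.bc
        (fun x y => E.cl x y) E.nz (κ := kap P (p0 * x) n1.h1 n1.h2) (by intro y; exact E.cl _ _) (hzκ n1) hm
        (by
          intro t
          exact k1 _ _ _ _ (c.f12.lift t) (by rw [itr_x12, fld_x21, hσ, dj_x21 m t hm]) (w13_x21 _))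
        (by
          intro t
          exact k1 _ _ _ _ (c.f23.lift t) (by rw [itr_x23, fld_x32, hσ, dj_x32 m t hm]) (w13_x32 _))
        (by
          intro t
          exact k1 _ _ _ _ (c.f13.lift t) (by rw [itr_x13, fld_x31, hσ, dj_x31 m t hm]) (w13_x31 _))
        (by
          have h3 := k1 _ _ _ _ c.hπ (by rw [itr_hh, fld_hi1 σ hσ, dj_hi m hm]) w13_hi
          rw [h3, map_mul, map_mul, q_sc, one_mul, one_mul])
        (by
          rintro rfl
          exact k1 _ _ _ _ O.aπ (by rw [itr_wa, fld_wa, dj_wa]) w13_wa)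
        (by
          rintro rfl
          exact k1 _ _ _ _ O.bπ (by rw [itr_wb, fld_wb, dj_wb 1 one_ne_zero]) w13_wb)
      exact ⟨fun t => fin2 n1 (r12 t), fun t => fin2 n1 (r23 t), fun t => fin2 n1 (r13 t), fin2 n1 rh, fin2 n1 ra,
        fin2 n1 rb⟩
    · have n2 : Nm P (p0 * x * u) := n1.mul O.nm_u
      have k2 : ∀ (y : P) (y' : P) (s s' s'' : S), u * (y : Γ) = y' * u → C.π y' = q s →
          cj (DD m) (fld σ (itr s)) = s' → w13 * s' = s'' * w13 →
          C.π (kap P (p0 * x * u) n2.h1 n2.h2 y) = q s'' := by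
        intro y y' s s' s'' hyy hy hs hw
        rw [← k1 y' s s' s'' hy hs hw]
        congr 1
        apply Subtype.ext
        rw [kap_apply, kap_apply, mul_assoc (_ * _) u, hyy]
        group
      have hσ2 : ∀ t, σ (t * t) = t := by
        intro t; rw [hσ]; revert t; decide
      refine ⟨p0, p0.2, u, Or.inr rfl, Or.inr ?_⟩
      obtain ⟨r12, r23, r13, rh, ra, rb⟩ := caseII7 (F := F) (χ := fun y : P => χ y) c E.e1 E.ew O.aπ O.bπ E.ac E.bc
        (fun x y => E.cl x y) E.nz (κ := kap P (p0 * x * u) n2.h1 n2.h2) (by intro y; exact E.cl _ _) (hzκ n2) hm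
        (by
          intro t
          exact k2 _ _ _ _ _ (O.u12 t) (c.f12.lift _) (by rw [itr_x12, fld_x21, hσ2, dj_x21 m t hm]) (w13_x21 _))
        (by
          intro t
          exact k2 _ _ _ _ _ (O.u23 t) (c.f23.lift _) (by rw [itr_x23, fld_x32, hσ2, dj_x32 m t hm]) (w13_x32 _))
        (by
          intro t
          exact k2 _ _ _ _ _ (O.u13 t) (c.f13.lift _) (by rw [itr_x13, fld_x31, hσ2, dj_x31 m t hm]) (w13_x31 _))
        (by
          have huh : u * (c.h : Γ) = ((c.h⁻¹ : P) : Γ) * u := by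
            rw [Subgroup.coe_inv, eq_inv_mul_iff_mul_eq, ← mul_assoc]; exact O.uh
          have hih : itr hi = hh := by
            rw [hi_eq, map_inv, itr_hh, hi_eq, inv_inv]
          have h3 := k2 _ _ hi _ _ huh (by rw [map_inv, c.hπ, ← map_inv, ← hi_eq])
            (by rw [hih, fld_hh2 σ hσ, dj_hi m hm]) w13_hi
          rw [h3, map_mul, map_mul, q_sc, one_mul, one_mul])
        (by
          rintro rfl
          exact k2 _ _ _ _ _ O.ua O.aπ (by rw [itr_wa, fld_wa, dj_wa]) w13_wa)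
        (by
          rintro rfl
          exact k2 _ _ _ _ _ O.ub O.bπ (by rw [itr_wb, fld_wb, dj_wb 1 one_ne_zero]) w13_wb)
      exact ⟨fun t => fin2 n2 (r12 t), fun t => fin2 n2 (r23 t), fun t => fin2 n2 (r13 t), fin2 n2 rh, fin2 n2 ra,
        fin2 n2 rb⟩

end Cfsg.Agent.H869.L34
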