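import Cfsg.Agent.H869.L34.Nrm7
import Cfsg.Agent.H840.L34.Over

/-!
# The graph automorphism of `2.L3(4)` on the module of dimension ten (helper869)
-/

set_option autoImplicit false
set_option linter.constructorNameAsVariable false

namespace Cfsg.Agent.H869.L34

open Cfsg.Agent.Lib.FieldFour
open Cfsg.Agent.H840.L34 Cfsg.Agent.H840.L34.Dt

section ortho

variable {F : Type*} [Field F] {V : Type*} [AddCommGroup V] [Module F V]

theorem exists_ch_ne (h2 : (2 : F) ≠ 0) {i j : F4 × F4} (hij : i ≠ j) : ∃ x, ch F i x * ch F j x ≠ 1 := by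
  by_contra h
  push Not at h
  have h3 := sum_ch (F := F) (i + j)
  rw [if_neg (fun h' => hij ((add_eq_zero_iff' i j).1 h'))] at h3
  have h4 : ∀ x, ch F (i + j) x = 1 := fun x => by rw [ch_add_left]; exact h x
  simp only [h4] at h3
  rw [Finset.sum_const, Finset.card_univ, Fintype.card_prod, F4.card, nsmul_eq_mul, mul_one] at h3
  apply sixteen_ne h2
  rw [← h3]; norm_num

theorem polar_zero (h2 : (2 : F) ≠ 0) (Q : QuadraticForm F V) {T : F4 × F4 → V →ₗ[F] V}
    (hT : ∀ x v, Q (T x v) = Q v) {i j : F4 × F4} (hij : i ≠ j) {u v : V} (hu : u ∈ W T i) (hv : v ∈ W T j) :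
    QuadraticMap.polar Q u v = 0 := by
  obtain ⟨x, hx⟩ := exists_ch_ne (F := F) h2 hij
  have h3 : QuadraticMap.polar Q (T x u) (T x v) = QuadraticMap.polar Q u v := by
    rw [QuadraticMap.polar, ← map_add, hT, hT, hT]; rfl
  rw [hu x, hv x, QuadraticMap.polar_smul_left, QuadraticMap.polar_smul_right, smul_eq_mul, smul_eq_mul,
    ← mul_assoc] at h3
  have h4 : (ch F i x * ch F j x - 1) * QuadraticMap.polar Q u v = 0 := by rw [sub_mul, h3, one_mul, sub_self]
  exact (mul_eq_zero.1 h4).resolve_left (sub_ne_zero.2 hx)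

end ortho

variable {G : Type*} [Group G] {C : Cv G}
variable {F : Type*} [Field F] {V : Type*} [AddCommGroup V] [Module F V]

/-- a linear map inducing the graph automorphism -/
structure SwV (ρ : G →* Module.End F V) (c : Conf C) (a b : G) (w : V →ₗ[F] V) : Prop where
  k12 : ∀ t v, w (ρ (c.X12 t) v) = ρ (c.X23 t) (w v)
  k23 : ∀ t v, w (ρ (c.X23 t) v) = ρ (c.X12 t) (w v)
  k13 : ∀ t v, w (ρ (c.X13 t) v) = ρ (c.X13 t) (w v)
  kh : ∀ v, w (ρ c.h v) = ρ c.h (w v)
  ka : ∀ v, w (ρ a v) = ρ b (w v)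

section

variable {ρ : G →* Module.End F V} {c : Conf C} {a b : G} {w : V →ₗ[F] V}

theorem SwV.map_a (S : SwV ρ c a b w) {i j : F4} {v : V} (hv : v ∈ W (RH.Ta ρ c) (i, j)) :
    w v ∈ W (RH.Tb ρ c) (i, j) := by
  rw [RH.mem_a] at hv
  rw [RH.mem_b]
  exact ⟨fun t => by rw [← S.k13, hv.1, map_smul], fun t => by rw [← S.k23, hv.2, map_smul]⟩

theorem SwV.map_b (S : SwV ρ c a b w) {i j : F4} {v : V} (hv : v ∈ W (RH.Tb ρ c) (i, j)) :
    w v ∈ W (RH.Ta ρ c) (i, j) := by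
  rw [RH.mem_b] at hv
  rw [RH.mem_a]
  exact ⟨fun t => by rw [← S.k13, hv.1, map_smul], fun t => by rw [← S.k12, hv.2, map_smul]⟩

variable (D : Dt C c ρ) (ha : RH.IsA ρ C a) (hb : RH.IsB ρ C b)
variable {v0 : V} (hv : v0 ∈ W (RH.Ta ρ c) (0, 0)) (h0 : v0 ≠ 0)

theorem co_vv (k : Om) {i j : F4} (hg : Gd i j) :
    (D.B ha hv h0).coord k (vv ρ c a v0 i j) = if (i, j) = k.1 then 1 else 0 := by
  have h1 : vv ρ c a v0 i j = D.B ha hv h0 ⟨(i, j), hg⟩ := (D.B_apply ha hv h0 ⟨(i, j), hg⟩).symm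
  rw [h1, Module.Basis.coord_apply, Module.Basis.repr_self, Finsupp.single_apply]
  simp only [Subtype.ext_iff]

include D ha hv h0 in
/-- the shape of a linear map inducing the graph automorphism -/
theorem SwV.form (S : SwV ρ c a b w) {r : F}
    (e2 : ∀ j, j ≠ 0 → ρ b (ff ρ c a v0 0 j) = r⁻¹ • ff ρ c a v0 j 0) :
    ∃ k : F, (∀ j, w (vv ρ c a v0 0 j) = k • ff ρ c a v0 0 j) ∧
      (∀ j, j ≠ 0 → w (vv ρ c a v0 j 0) = (k * r⁻¹) • ff ρ c a v0 j 0) ∧
      (∀ j, j ≠ 0 → w (vv ρ c a v0 j j⁻¹) = (k * r⁻¹) • ff ρ c a v0 j j⁻¹) := by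
  have h2 := D.R.two
  have hc : ∀ {i j : F4}, Gd i j → ∃ k : F, w (vv ρ c a v0 i j) = k • ff ρ c a v0 i j := by
    intro i j hg
    exact eq_smul (D.fr_b ha hv h0 ⟨(i, j), hg⟩) (D.mem_ff ha hv hg) (D.ff_ne_zero ha hv h0)
      (S.map_a (D.mem_vv ha hv hg))
  have hd : ∀ {i j : F4}, Gd i j → ∃ k : F, w (ff ρ c a v0 i j) = k • vv ρ c a v0 i j := by
    intro i j hg
    exact eq_smul (D.R.m_one c D.e1 hg) (D.mem_vv ha hv hg) (ne_vv h0 _ _) (S.map_b (D.mem_ff ha hv hg))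
  obtain ⟨c00, h00⟩ := hc (i := 0) (j := 0) (by decide)
  obtain ⟨c01, h01⟩ := hc (i := 0) (j := 1) (by decide)
  obtain ⟨c0w, h0w⟩ := hc (i := 0) (j := F4.w) (by decide)
  obtain ⟨c0v, h0v⟩ := hc (i := 0) (j := F4.v) (by decide)
  obtain ⟨d0, hd0⟩ := hd (i := 0) (j := 0) (by decide)
  rw [ff00, map_add, map_add, map_add, h00, h01, h0w, h0v, ff00, ff01, ff0w, ff0v] at hd0
  have q1 := congrArg ((D.B ha hv h0).coord ⟨(0, 1), by decide⟩) hd0
  have q2 := congrArg ((D.B ha hv h0).coord ⟨(0, F4.w), by decide⟩) hd0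
  have q3 := congrArg ((D.B ha hv h0).coord ⟨(0, F4.v), by decide⟩) hd0
  simp only [map_add, map_sub, map_smul, co_vv D ha hv h0 _ (i := 0) (j := 0) (by decide),
    co_vv D ha hv h0 _ (i := 0) (j := 1) (by decide), co_vv D ha hv h0 _ (i := 0) (j := F4.w) (by decide),
    co_vv D ha hv h0 _ (i := 0) (j := F4.v) (by decide), smul_eq_mul] at q1 q2 q3
  simp [show ¬ ((0 : F4) = 1) by decide, show ¬ ((0 : F4) = F4.w) by decide, show ¬ ((0 : F4) = F4.v) by decide,
    show ¬ ((1 : F4) = F4.w) by decide, show ¬ ((1 : F4) = F4.v) by decide,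
    show ¬ (F4.w = (1 : F4)) by decide, show ¬ (F4.v = (1 : F4)) by decide] at q1 q2 q3
  have r1 : c01 = c00 := by
    apply mul_left_cancel₀ h2; linear_combination -q2 - q3
  have r2 : c0w = c00 := by
    apply mul_left_cancel₀ h2; linear_combination -q1 - q3
  have r3 : c0v = c00 := by
    apply mul_left_cancel₀ h2; linear_combination -q1 - q2
  subst r1 r2 r3
  clear q1 q2 q3 hd0
  have A0 : ∀ j, w (vv ρ c a v0 0 j) = c0v • ff ρ c a v0 0 j := by
    intro j
    cases j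
    · exact h00
    · exact h01
    · exact h0w
    · exact h0v
  have e2' : ρ b (ff ρ c a v0 0 1) = r⁻¹ • ff ρ c a v0 1 0 := e2 1 (by decide)
  -- the constants on the other weights
  obtain ⟨k, hk⟩ := hc (i := 1) (j := 0) (by decide)
  have a01 : ρ a (vv ρ c a v0 0 1) = vv ρ c a v0 1 0 := D.a_vv ha hv (by decide)
  have kr : k = c0v * r⁻¹ := by
    have h3 := S.ka (vv ρ c a v0 0 1)
    rw [a01, hk, A0, map_smul, e2', smul_smul] at h3
    have h4 : (k - c0v * r⁻¹) • ff ρ c a v0 1 0 = 0 := by rw [sub_smul, h3, sub_self]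
    exact sub_eq_zero.1 ((smul_eq_zero.1 h4).resolve_right (D.ff_ne_zero ha hv h0))
  have t1 : ρ c.h (vv ρ c a v0 1 0) = vv ρ c a v0 F4.v 0 := by
    have := D.h_vv ha hv (i := 1) (j := 0) (by decide)
    exact this
  have t2 : ρ c.h (vv ρ c a v0 F4.v 0) = vv ρ c a v0 F4.w 0 := by
    have := D.h_vv ha hv (i := F4.v) (j := 0) (by decide)
    exact this
  have k1 : ρ c.h (ff ρ c a v0 1 0) = ff ρ c a v0 F4.v 0 := by
    have := D.h_ff ha hv (i := 1) (j := 0) (by decide)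
    exact this
  have k2 : ρ c.h (ff ρ c a v0 F4.v 0) = ff ρ c a v0 F4.w 0 := by
    have := D.h_ff ha hv (i := F4.v) (j := 0) (by decide)
    exact this
  have hkv : w (vv ρ c a v0 F4.v 0) = k • ff ρ c a v0 F4.v 0 := by
    rw [← t1, S.kh, hk, map_smul, k1]
  have hkw : w (vv ρ c a v0 F4.w 0) = k • ff ρ c a v0 F4.w 0 := by
    rw [← t2, S.kh, hkv, map_smul, k2]
  have A1 : ∀ j, j ≠ 0 → w (vv ρ c a v0 j 0) = k • ff ρ c a v0 j 0 := by
    intro j hj
    cases j
    · exact absurd rfl hj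
    · exact hk
    · exact hkw
    · exact hkv
  have A2 : ∀ j, j ≠ 0 → w (vv ρ c a v0 j j⁻¹) = k • ff ρ c a v0 j j⁻¹ := by
    intro j hj
    obtain ⟨m, hm⟩ := hc (i := j) (j := j⁻¹) (g6 j)
    obtain ⟨d, hd⟩ := hd (i := j) (j := 0) (Or.inl (mul_zero j))
    have hm' := hm
    rw [ffj0 a v0 hj, map_add, A1 j hj, hm, ffj0 a v0 hj, ffji a v0 hj] at hd
    have q4 := congrArg ((D.B ha hv h0).coord ⟨(j, j⁻¹), g6 j⟩) hd
    simp only [map_add, map_sub, map_smul, co_vv D ha hv h0 _ (i := j) (j := 0) (Or.inl (mul_zero j)),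
      co_vv D ha hv h0 _ (i := j) (j := j⁻¹) (g6 j), smul_eq_mul] at q4
    rw [if_neg (fun h => (inv_ne_zero hj) (Prod.ext_iff.1 h).2.symm)] at q4
    simp only [if_true] at q4
    have : m = k := by linear_combination -q4
    rw [hm', this]
  exact ⟨c0v, A0, fun j hj => by rw [A1 j hj, kr], fun j hj => by rw [A2 j hj, kr]⟩

/-- vectors in the first block -/
def V4 (ρ : G →* Module.End F V) (c : Conf C) (a : G) (v0 : V) (x y z t : F) : V :=
  x • vv ρ c a v0 0 0 + y • vv ρ c a v0 0 1 + z • vv ρ c a v0 0 F4.w + t • vv ρ c a v0 0 F4.v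

/-- vectors in the other blocks -/
def V2 (ρ : G →* Module.End F V) (c : Conf C) (a : G) (v0 : V) (j : F4) (x y : F) : V :=
  x • vv ρ c a v0 j 0 + y • vv ρ c a v0 j j⁻¹

theorem map_V4 {k : F} (hw : ∀ j, w (vv ρ c a v0 0 j) = k • ff ρ c a v0 0 j) (x y z t : F) :
    w (V4 ρ c a v0 x y z t) = V4 ρ c a v0 (k * (x + y + z + t)) (k * (x + y - z - t)) (k * (x - y + z - t))
      (k * (x - y - z + t)) := by
  unfold V4
  rw [map_add, map_add, map_add, map_smul, map_smul, map_smul, map_smul, hw, hw, hw, hw, ff00, ff01, ff0w, ff0v]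
  module

theorem map_V2 {k : F} (hw : ∀ j, j ≠ 0 → w (vv ρ c a v0 j 0) = k • ff ρ c a v0 j 0)
    (hw' : ∀ j, j ≠ 0 → w (vv ρ c a v0 j j⁻¹) = k • ff ρ c a v0 j j⁻¹) {j : F4} (hj : j ≠ 0) (x y : F) :
    w (V2 ρ c a v0 j x y) = V2 ρ c a v0 j (k * (x + y)) (k * (x - y)) := by
  unfold V2
  rw [map_add, map_smul, map_smul, hw j hj, hw' j hj, ffj0 a v0 hj, ffji a v0 hj]
  module

section form

variable (Q : QuadraticForm F V) (hQ : ∀ g v, Q (ρ g v) = Q v)

include hQ in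
theorem Q_vv (i j : F4) : Q (vv ρ c a v0 i j) = Q v0 := by
  unfold vv
  by_cases hi : i = 0
  · rw [if_pos hi, hQ]
  · rw [if_neg hi, hQ]
    unfold uu
    rw [hQ, hQ]

include D ha hv hQ in
theorem polar_vv {i j i' j' : F4} (hg : Gd i j) (hg' : Gd i' j') (hne : (i, j) ≠ (i', j')) :
    QuadraticMap.polar Q (vv ρ c a v0 i j) (vv ρ c a v0 i' j') = 0 :=
  polar_zero D.R.two Q (T := RH.Ta ρ c) (fun _ v => hQ _ v) hne (D.mem_vv ha hv hg) (D.mem_vv ha hv hg')

include hQ in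
theorem polar_self (i j : F4) : QuadraticMap.polar Q (vv ρ c a v0 i j) (vv ρ c a v0 i j) = 2 * Q v0 := by
  rw [QuadraticMap.polar_self, Q_vv Q hQ, two_nsmul, two_mul]

include D ha hv hQ in
theorem polar_V4 (x y z t x' y' z' t' : F) :
    QuadraticMap.polar Q (V4 ρ c a v0 x y z t) (V4 ρ c a v0 x' y' z' t') =
      2 * (x * x' + y * y' + z * z' + t * t') * Q v0 := by
  have p := fun {i j i' j' : F4} => polar_vv D ha hv Q hQ (i := i) (j := j) (i' := i') (j' := j')
  have s := fun i j => polar_self (c := c) (a := a) (v0 := v0) Q hQ i j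
  unfold V4
  simp only [QuadraticMap.polar_add_left, QuadraticMap.polar_add_right, QuadraticMap.polar_smul_left,
    QuadraticMap.polar_smul_right, smul_eq_mul, s]
  rw [p (i := 0) (j := 0) (i' := 0) (j' := 1) (by decide) (by decide) (by decide),
    p (i := 0) (j := 0) (i' := 0) (j' := F4.w) (by decide) (by decide) (by decide),
    p (i := 0) (j := 0) (i' := 0) (j' := F4.v) (by decide) (by decide) (by decide),
    p (i := 0) (j := 1) (i' := 0) (j' := 0) (by decide) (by decide) (by decide),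
    p (i := 0) (j := 1) (i' := 0) (j' := F4.w) (by decide) (by decide) (by decide),
    p (i := 0) (j := 1) (i' := 0) (j' := F4.v) (by decide) (by decide) (by decide),
    p (i := 0) (j := F4.w) (i' := 0) (j' := 0) (by decide) (by decide) (by decide),
    p (i := 0) (j := F4.w) (i' := 0) (j' := 1) (by decide) (by decide) (by decide),
    p (i := 0) (j := F4.w) (i' := 0) (j' := F4.v) (by decide) (by decide) (by decide),
    p (i := 0) (j := F4.v) (i' := 0) (j' := 0) (by decide) (by decide) (by decide),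
    p (i := 0) (j := F4.v) (i' := 0) (j' := 1) (by decide) (by decide) (by decide),
    p (i := 0) (j := F4.v) (i' := 0) (j' := F4.w) (by decide) (by decide) (by decide)]
  ring

include D ha hv hQ in
theorem polar_V2 {j : F4} (hj : j ≠ 0) (x y x' y' : F) :
    QuadraticMap.polar Q (V2 ρ c a v0 j x y) (V2 ρ c a v0 j x' y') = 2 * (x * x' + y * y') * Q v0 := by
  have p := fun {i j i' j' : F4} => polar_vv D ha hv Q hQ (i := i) (j := j) (i' := i') (j' := j')
  have s := fun i j => polar_self (c := c) (a := a) (v0 := v0) Q hQ i j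
  unfold V2
  simp only [QuadraticMap.polar_add_left, QuadraticMap.polar_add_right, QuadraticMap.polar_smul_left,
    QuadraticMap.polar_smul_right, smul_eq_mul, s]
  rw [p (i := j) (j := 0) (i' := j) (j' := j⁻¹) (Or.inl (mul_zero j)) (g6 j)
      (fun h => (inv_ne_zero hj) (Prod.ext_iff.1 h).2.symm),
    p (i := j) (j := j⁻¹) (i' := j) (j' := 0) (g6 j) (Or.inl (mul_zero j))
      (fun h => (inv_ne_zero hj) (Prod.ext_iff.1 h).2)]
  ring

include D ha hv hQ in
theorem polar_V42 {j : F4} (hj : j ≠ 0) (x y z t x' y' : F) :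
    QuadraticMap.polar Q (V4 ρ c a v0 x y z t) (V2 ρ c a v0 j x' y') = 0 := by
  have p : ∀ {k l : F4}, Gd j l → QuadraticMap.polar Q (vv ρ c a v0 0 k) (vv ρ c a v0 j l) = 0 := fun {k l} hg =>
    polar_vv D ha hv Q hQ (Or.inl (zero_mul k)) hg (fun h => hj (Prod.ext_iff.1 h).1.symm)
  unfold V2 V4
  simp only [QuadraticMap.polar_add_left, QuadraticMap.polar_add_right, QuadraticMap.polar_smul_left,
    QuadraticMap.polar_smul_right, smul_eq_mul]
  rw [p (k := 0) (g6 j), p (k := 1) (g6 j), p (k := F4.w) (g6 j), p (k := F4.v) (g6 j),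
    p (k := 0) (Or.inl (mul_zero j)), p (k := 1) (Or.inl (mul_zero j)), p (k := F4.w) (Or.inl (mul_zero j)),
    p (k := F4.v) (Or.inl (mul_zero j))]
  ring

include D ha hv hQ in
theorem polar_V22 {i j : F4} (hij : i ≠ j) (x y x' y' : F) :
    QuadraticMap.polar Q (V2 ρ c a v0 i x y) (V2 ρ c a v0 j x' y') = 0 := by
  have p : ∀ {k l : F4}, Gd i k → Gd j l → QuadraticMap.polar Q (vv ρ c a v0 i k) (vv ρ c a v0 j l) = 0 :=
    fun {k l} hg hg' => polar_vv D ha hv Q hQ hg hg' (fun h => hij (Prod.ext_iff.1 h).1)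
  unfold V2
  simp only [QuadraticMap.polar_add_left, QuadraticMap.polar_add_right, QuadraticMap.polar_smul_left,
    QuadraticMap.polar_smul_right, smul_eq_mul]
  rw [p (Or.inl (mul_zero i)) (Or.inl (mul_zero j)), p (Or.inl (mul_zero i)) (g6 j),
    p (g6 i) (Or.inl (mul_zero j)), p (g6 i) (g6 j)]
  ring

end form

end

end Cfsg.Agent.H869.L34
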